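import Mathlib

/-! Self-dual modules of coprime finite groups: splitting into a symplectic and an orthogonal
part (over any field). -/

set_option linter.unusedSectionVars false

namespace Cfsg.Agent.Lib.SelfDual

variable {F : Type*} [Field F] {G : Type*} [Group G] {V : Type*} [AddCommGroup V] [Module F V]

/-- `U` is stable under the representation. -/
def Inv (ρ : Representation F G V) (U : Submodule F V) : Prop := ∀ g : G, ∀ u ∈ U, ρ g u ∈ U

/-- `S` is a minimal nonzero invariant subspace. -/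
def Simp (ρ : Representation F G V) (S : Submodule F V) : Prop :=
  Inv ρ S ∧ S ≠ ⊥ ∧ ∀ U, Inv ρ U → U ≤ S → U = ⊥ ∨ U = S

/-- `B` is left nondegenerate between `S` and `T`. -/
def Pair (B : LinearMap.BilinForm F V) (S T : Submodule F V) : Prop :=
  ∀ x ∈ S, (∀ y ∈ T, B x y = 0) → x = 0

/-- The left orthogonal of `T`. -/
def perp (B : LinearMap.BilinForm F V) (T : Submodule F V) : Submodule F V where
  carrier := {x | ∀ y ∈ T, B x y = 0}
  add_mem' := by intro a b ha hb y hy; simp [ha y hy, hb y hy]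
  zero_mem' := by intro y _; simp
  smul_mem' := by intro c a ha y hy; simp [ha y hy]

lemma mem_perp {B : LinearMap.BilinForm F V} {T : Submodule F V} {x : V} :
    x ∈ perp B T ↔ ∀ y ∈ T, B x y = 0 := Iff.rfl

section reps

variable [FiniteDimensional F V]

lemma finrank_le_of_pair {B : LinearMap.BilinForm F V} {S T : Submodule F V} (h : Pair B S T) :
    Module.finrank F S ≤ Module.finrank F T := by
  let f : S →ₗ[F] Module.Dual F T := B.compl₁₂ S.subtype T.subtype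
  have hf : Function.Injective f := by
    rw [injective_iff_map_eq_zero]
    intro x hx
    apply Subtype.ext
    refine h x x.2 (fun y hy => ?_)
    exact LinearMap.congr_fun hx ⟨y, hy⟩
  have := LinearMap.finrank_le_finrank_of_injective hf
  rwa [Subspace.dual_finrank_eq] at this

/-- Representation of functionals on `T` by elements of `S`. -/
lemma exists_rep {B : LinearMap.BilinForm F V} {S T : Submodule F V} (h : Pair B S T)
    (hd : Module.finrank F T ≤ Module.finrank F S) :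
    ∃ π : V →ₗ[F] V, (∀ x, π x ∈ S) ∧ (∀ x, ∀ z ∈ T, B (π x) z = B x z) ∧ ∀ x ∈ S, π x = x := by
  let f : S →ₗ[F] Module.Dual F T := B.compl₁₂ S.subtype T.subtype
  have hf : Function.Injective f := by
    rw [injective_iff_map_eq_zero]
    intro x hx
    apply Subtype.ext
    refine h x x.2 (fun y hy => ?_)
    exact LinearMap.congr_fun hx ⟨y, hy⟩
  have hd' : Module.finrank F S = Module.finrank F (Module.Dual F T) := by
    rw [Subspace.dual_finrank_eq]; exact le_antisymm (finrank_le_of_pair h) hd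
  let e := f.linearEquivOfInjective hf hd'
  let r : V →ₗ[F] Module.Dual F T := B.compl₁₂ (LinearMap.id) T.subtype
  refine ⟨S.subtype ∘ₗ e.symm.toLinearMap ∘ₗ r, fun x => (e.symm (r x)).2, fun x z hz => ?_,
    fun x hx => ?_⟩
  · have : f (e.symm (r x)) = r x := by
      rw [← LinearMap.linearEquivOfInjective_apply (hf := hf) (hdim := hd') (e.symm (r x))]
      exact e.apply_symm_apply _
    exact LinearMap.congr_fun this ⟨z, hz⟩
  · have : r x = e ⟨x, hx⟩ := by
      rw [LinearMap.linearEquivOfInjective_apply]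
      ext z; rfl
    change ((e.symm (r x) : S) : V) = x
    rw [this, e.symm_apply_apply]

lemma pair_flip {B : LinearMap.BilinForm F V} {S T : Submodule F V} (h : Pair B S T)
    (hd : Module.finrank F T ≤ Module.finrank F S) :
    ∀ y ∈ T, (∀ x ∈ S, B x y = 0) → y = 0 := by
  intro y hy h0
  let f : S →ₗ[F] Module.Dual F T := B.compl₁₂ S.subtype T.subtype
  have hf : Function.Injective f := by
    rw [injective_iff_map_eq_zero]
    intro x hx
    apply Subtype.ext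
    refine h x x.2 (fun y hy => ?_)
    exact LinearMap.congr_fun hx ⟨y, hy⟩
  have hd' : Module.finrank F S = Module.finrank F (Module.Dual F T) := by
    rw [Subspace.dual_finrank_eq]; exact le_antisymm (finrank_le_of_pair h) hd
  have hsurj : Function.Surjective f :=
    (LinearMap.injective_iff_surjective_of_finrank_eq_finrank hd').mp hf
  have : ∀ φ : Module.Dual F T, φ ⟨y, hy⟩ = 0 := by
    intro φ
    obtain ⟨x, rfl⟩ := hsurj φ
    exact h0 x x.2
  have := (Module.forall_dual_apply_eq_zero_iff F (⟨y, hy⟩ : T)).mp this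
  exact congrArg Subtype.val this

lemma rep_equivariant {B : LinearMap.BilinForm F V} {ρ : Representation F G V}
    (hB : ∀ g x y, B (ρ g x) (ρ g y) = B x y) {S T : Submodule F V} (hS : Inv ρ S) (hT : Inv ρ T)
    (h : Pair B S T) {π : V →ₗ[F] V} (h1 : ∀ x, π x ∈ S) (h2 : ∀ x, ∀ z ∈ T, B (π x) z = B x z)
    (g : G) (x : V) : π (ρ g x) = ρ g (π x) := by
  rw [← sub_eq_zero]
  refine h _ (S.sub_mem (h1 _) (hS g _ (h1 _))) (fun z hz => ?_)
  have hz' : ρ g⁻¹ z ∈ T := hT _ _ hz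
  have e : ρ g (ρ g⁻¹ z) = z := ρ.self_inv_apply g z
  have e1 : ∀ w, B (ρ g w) z = B w (ρ g⁻¹ z) := fun w => by
    conv_lhs => rw [← e]
    rw [hB]
  simp only [map_sub, LinearMap.sub_apply, h2 _ z hz, e1, h2 _ _ hz', sub_self]

end reps

section maschke

variable [Finite G]

lemma exists_proj (ρ : Representation F G V) (hcop : (Nat.card G : F) ≠ 0) {U : Submodule F V}
    (hU : Inv ρ U) :
    ∃ q : V →ₗ[F] V, (∀ x, q x ∈ U) ∧ (∀ x ∈ U, q x = x) ∧ ∀ g x, q (ρ g x) = ρ g (q x) := by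
  classical
  cases nonempty_fintype G
  obtain ⟨C, hC⟩ := Submodule.exists_isCompl U
  let q0 : V →ₗ[F] V := U.subtype ∘ₗ Submodule.projectionOnto U C hC
  have h0 : ∀ x, q0 x ∈ U := fun x => (Submodule.projectionOnto U C hC x).2
  have h1 : ∀ x ∈ U, q0 x = x := fun x hx => by
    change ((Submodule.projectionOnto U C hC x : U) : V) = x
    have := Submodule.projectionOnto_apply_left hC ⟨x, hx⟩
    exact congrArg Subtype.val this
  refine ⟨(Nat.card G : F)⁻¹ • ∑ g : G, ρ g ∘ₗ q0 ∘ₗ ρ g⁻¹, fun x => ?_, fun x hx => ?_,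
    fun g x => ?_⟩
  · simp only [LinearMap.smul_apply, LinearMap.sum_apply, LinearMap.comp_apply]
    exact U.smul_mem _ (U.sum_mem fun g _ => hU g _ (h0 _))
  · simp only [LinearMap.smul_apply, LinearMap.sum_apply, LinearMap.comp_apply]
    rw [Finset.sum_congr rfl (fun g _ => by rw [h1 _ (hU g⁻¹ x hx), ρ.self_inv_apply])]
    rw [Finset.sum_const, Finset.card_univ, ← Nat.card_eq_fintype_card, ← Nat.cast_smul_eq_nsmul F,
      smul_smul, inv_mul_cancel₀ hcop, one_smul]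
  · simp only [LinearMap.smul_apply, LinearMap.sum_apply, LinearMap.comp_apply, map_smul, map_sum]
    congr 1
    refine Fintype.sum_equiv (Equiv.mulLeft g⁻¹) _ _ (fun h => ?_)
    simp only [Equiv.coe_mulLeft, mul_inv_rev, inv_inv, map_mul, Module.End.mul_apply]
    rw [ρ.self_inv_apply]

lemma exists_simp_not_le [FiniteDimensional F V] (ρ : Representation F G V)
    (hcop : (Nat.card G : F) ≠ 0) (Z : Submodule F V) :
    ∀ n : ℕ, ∀ W : Submodule F V, Module.finrank F W = n → Inv ρ W → ¬ W ≤ Z →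
      ∃ T, Simp ρ T ∧ T ≤ W ∧ ¬ T ≤ Z := by
  intro n
  induction n using Nat.strong_induction_on with
  | _ n ih =>
  intro W hn hW hWZ
  by_cases hs : Simp ρ W
  · exact ⟨W, hs, le_rfl, hWZ⟩
  have hW0 : W ≠ ⊥ := fun h => hWZ (h ▸ bot_le)
  simp only [Simp, hW, hW0, ne_eq, not_false_eq_true, true_and, not_forall, not_or] at hs
  obtain ⟨T', hT', hle, hne0, hne⟩ := hs
  obtain ⟨q, q1, q2, q3⟩ := exists_proj ρ hcop hT'
  have hW'' : Inv ρ (W ⊓ LinearMap.ker q) := by
    intro g u hu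
    refine ⟨hW g u hu.1, ?_⟩
    change q (ρ g u) = 0
    rw [q3, show q u = 0 from hu.2, map_zero]
  have hlt : T' < W := lt_of_le_of_ne hle hne
  have hlt'' : W ⊓ LinearMap.ker q < W := by
    refine lt_of_le_of_ne inf_le_left (fun h => hne0 ?_)
    rw [eq_bot_iff]
    intro x hx
    have : x ∈ W ⊓ LinearMap.ker q := by rw [h]; exact hle hx
    have h2 : q x = 0 := this.2
    rw [q2 x hx] at h2
    simpa using h2
  rcases not_forall.mp (fun hall : ∀ x ∈ W, x ∈ Z => hWZ hall) with ⟨x, hx⟩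
  simp only [Classical.not_imp] at hx
  by_cases hq : q x ∈ Z
  · have hnot : ¬ W ⊓ LinearMap.ker q ≤ Z := by
      intro h
      apply hx.2
      have : x - q x ∈ W ⊓ LinearMap.ker q := by
        refine ⟨W.sub_mem hx.1 (hle (q1 x)), ?_⟩
        change q (x - q x) = 0
        rw [map_sub, q2 _ (q1 x), sub_self]
      simpa using Z.add_mem (h this) hq
    obtain ⟨T, h1, h2, h3⟩ := ih _ (hn ▸ Submodule.finrank_lt_finrank_of_lt hlt'') _ rfl hW'' hnot
    exact ⟨T, h1, h2.trans inf_le_left, h3⟩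
  · obtain ⟨T, h1, h2, h3⟩ := ih _ (hn ▸ Submodule.finrank_lt_finrank_of_lt hlt) _ rfl hT'
      (fun h => hq (h (q1 x)))
    exact ⟨T, h1, h2.trans hle, h3⟩

end maschke

section forms

variable [FiniteDimensional F V] {B : LinearMap.BilinForm F V} {ρ : Representation F G V}
  (hB : ∀ g x y, B (ρ g x) (ρ g y) = B x y)

include hB

omit [FiniteDimensional F V] in
lemma inv_perp {T : Submodule F V} (hT : Inv ρ T) : Inv ρ (perp B T) := by
  intro g x hx y hy
  have : ρ g (ρ g⁻¹ y) = y := ρ.self_inv_apply g y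
  rw [← this, hB]
  exact hx _ (hT _ _ hy)

omit [FiniteDimensional F V] in
lemma pair_of_simp {S T : Submodule F V} (hS : Simp ρ S) (hT : Inv ρ T)
    (h : ∃ x ∈ S, ∃ y ∈ T, B x y ≠ 0) : Pair B S T := by
  intro x hx h0
  rcases hS.2.2 (S ⊓ perp B T)
    (fun g u hu => ⟨hS.1 g u hu.1, inv_perp hB hT g u hu.2⟩) inf_le_left with h1 | h1
  · have : x ∈ S ⊓ perp B T := ⟨hx, h0⟩
    rw [h1] at this
    simpa using this
  · obtain ⟨a, ha, b, hb, hab⟩ := h
    have : a ∈ S ⊓ perp B T := by rw [h1]; exact ha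
    exact absurd (this.2 b hb) hab

lemma finrank_eq_of_simp {S T : Submodule F V} (hS : Simp ρ S) (hT : Simp ρ T)
    (h : ∃ x ∈ S, ∃ y ∈ T, B x y ≠ 0) : Module.finrank F S = Module.finrank F T := by
  refine le_antisymm (finrank_le_of_pair (pair_of_simp hB hS hT.1 h)) ?_
  have hflip : ∀ g x y, B.flip (ρ g x) (ρ g y) = B.flip x y := fun g x y => hB g y x
  obtain ⟨x, hx, y, hy, hxy⟩ := h
  exact finrank_le_of_pair (pair_of_simp hflip hT hS.1 ⟨y, hy, x, hx, hxy⟩)

/-- A nonzero invariant subspace with a piece form. -/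
def Piece (ρ : Representation F G V) (P : Submodule F V) : Prop :=
  (∃ A : LinearMap.BilinForm F V, (∀ x, A x x = 0) ∧
      (∀ g, ∀ x ∈ P, ∀ y ∈ P, A (ρ g x) (ρ g y) = A x y) ∧ Pair A P P) ∨
  ((∃ S : LinearMap.BilinForm F V, (∀ x y, S x y = S y x) ∧
      (∀ g, ∀ x ∈ P, ∀ y ∈ P, S (ρ g x) (ρ g y) = S x y) ∧ Pair S P P) ∧
    ((2 : F) = 0 → ∀ g, ∀ x ∈ P, ρ g x = x))

lemma piece_simp {P : Submodule F V} (hP : Simp ρ P) (hPP : Pair B P P) : Piece ρ P := by
  obtain ⟨π, h1, h2, h3⟩ := exists_rep hPP le_rfl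
  let S : LinearMap.BilinForm F V := B.compl₁₂ π π + (B.compl₁₂ π π).flip
  have hS : ∀ x ∈ P, ∀ y ∈ P, S x y = B x y + B y x := fun x hx y hy => by
    simp [S, h3 x hx, h3 y hy]
  have hSinv : ∀ g, ∀ x ∈ P, ∀ y ∈ P, S (ρ g x) (ρ g y) = S x y := fun g x hx y hy => by
    rw [hS _ (hP.1 g x hx) _ (hP.1 g y hy), hS x hx y hy, hB, hB]
  have hSsym : ∀ x y, S x y = S y x := fun x y => by simp [S, add_comm]
  have hSnd : (∃ x ∈ P, ∃ y ∈ P, B x y + B y x ≠ 0) → Pair S P P := by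
    rintro ⟨a, ha, b, hb, hab⟩ x hx h0
    have hinv : Inv ρ (P ⊓ perp S P) := by
      intro g u hu
      refine ⟨hP.1 g u hu.1, fun z hz => ?_⟩
      rw [← ρ.self_inv_apply g z, hSinv g u hu.1 _ (hP.1 _ _ hz)]
      exact hu.2 _ (hP.1 _ _ hz)
    rcases hP.2.2 _ hinv inf_le_left with h | h
    · have : x ∈ P ⊓ perp S P := ⟨hx, h0⟩
      rw [h] at this; simpa using this
    · have : a ∈ P ⊓ perp S P := by rw [h]; exact ha
      exact absurd ((hS a ha b hb).symm.trans (this.2 b hb)) hab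
  by_cases halt : ∀ x ∈ P, B x x = 0
  · left
    refine ⟨B.compl₁₂ π π, fun x => ?_, fun g x hx y hy => ?_, fun x hx h0 => ?_⟩
    · simpa using halt _ (h1 x)
    · simp [h3 _ (hP.1 g x hx), h3 _ (hP.1 g y hy), h3 x hx, h3 y hy, hB]
    · exact hPP x hx (fun y hy => by simpa [h3 x hx, h3 y hy] using h0 y hy)
  simp only [not_forall] at halt
  obtain ⟨a, ha, haa⟩ := halt
  by_cases hsum : ∃ x ∈ P, ∃ y ∈ P, B x y + B y x ≠ 0
  · by_cases h2' : (2 : F) = 0
    · left
      refine ⟨S, fun x => ?_, hSinv, hSnd hsum⟩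
      simp [S, ← two_mul, h2']
    · right
      exact ⟨⟨S, hSsym, hSinv, hSnd hsum⟩, fun h => absurd h h2'⟩
  push Not at hsum
  have h20 : (2 : F) = 0 := by
    have := hsum a ha a ha
    rw [← two_mul] at this
    exact (mul_eq_zero.mp this).resolve_right haa
  have hsym : ∀ x ∈ P, ∀ y ∈ P, B x y = B y x := by
    intro x hx y hy
    have := hsum x hx y hy
    rw [eq_neg_of_add_eq_zero_left this]
    linear_combination (-B y x) * h20
  have hK : ∀ x ∈ P, B x x = 0 → x = 0 := by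
    intro x hx hxx
    let K : Submodule F V :=
      { carrier := {z | z ∈ P ∧ B z z = 0}
        add_mem' := by
          intro u w hu hw
          refine ⟨P.add_mem hu.1 hw.1, ?_⟩
          simp only [map_add, LinearMap.add_apply, hu.2, hw.2]
          linear_combination hsum u hu.1 w hw.1
        zero_mem' := ⟨P.zero_mem, by simp⟩
        smul_mem' := by
          intro c u hu
          exact ⟨P.smul_mem c hu.1, by simp [hu.2]⟩ }
    rcases hP.2.2 K (fun g u hu => ⟨hP.1 g u hu.1, by rw [hB]; exact hu.2⟩) (fun z hz => hz.1)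
      with h | h
    · have : x ∈ K := ⟨hx, hxx⟩
      rw [h] at this; simpa using this
    · have : a ∈ K := by rw [h]; exact ha
      exact absurd this.2 haa
  right
  refine ⟨⟨(B.compl₁₂ π π), fun x y => by simpa using hsym _ (h1 x) _ (h1 y), fun g x hx y hy => ?_,
    fun x hx h0 => hPP x hx (fun y hy => by simpa [h3 x hx, h3 y hy] using h0 y hy)⟩,
    fun _ g x hx => ?_⟩
  · simp [h3 _ (hP.1 g x hx), h3 _ (hP.1 g y hy), h3 x hx, h3 y hy, hB]
  · rw [← sub_eq_zero]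
    refine hK _ (P.sub_mem (hP.1 g x hx) hx) ?_
    simp only [map_sub, LinearMap.sub_apply, hB, hsym x hx _ (hP.1 g x hx)]
    linear_combination (B x x - B (ρ g x) x) * h20

lemma piece_pair {S T : Submodule F V} (hS : Simp ρ S) (hT : Simp ρ T)
    (hS0 : ∀ x ∈ S, ∀ y ∈ S, B x y = 0) (hT0 : ∀ x ∈ T, ∀ y ∈ T, B x y = 0)
    (hST : ∃ x ∈ S, ∃ y ∈ T, B x y ≠ 0) (hTS : ∃ x ∈ T, ∃ y ∈ S, B x y ≠ 0) :
    Piece ρ (S ⊔ T) ∧ Pair B (S ⊔ T) (S ⊔ T) := by
  have p1 : Pair B S T := pair_of_simp hB hS hT.1 hST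
  have p2 : Pair B T S := pair_of_simp hB hT hS.1 hTS
  have hd := finrank_eq_of_simp hB hS hT hST
  obtain ⟨a, a1, a2, a3⟩ := exists_rep p1 hd.ge
  obtain ⟨b, b1, b2, b3⟩ := exists_rep p2 hd.le
  have hab : ∀ s ∈ S, ∀ t ∈ T, a (s + t) = s ∧ b (s + t) = t := by
    intro s hs t ht
    have ha : a t = 0 := p1 _ (a1 t) (fun y hy => by rw [a2 t y hy]; exact hT0 t ht y hy)
    have hb : b s = 0 := p2 _ (b1 s) (fun y hy => by rw [b2 s y hy]; exact hS0 s hs y hy)
    simp [ha, hb, a3 s hs, b3 t ht]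
  have hae := rep_equivariant hB hS.1 hT.1 p1 a1 a2
  have hbe := rep_equivariant hB hT.1 hS.1 p2 b1 b2
  refine ⟨Or.inl ⟨B.compl₁₂ a b - (B.compl₁₂ a b).flip, fun x => by simp,
    fun g x _ y _ => by simp [hae, hbe, hB], ?_⟩, ?_⟩
  · intro x hx h0
    obtain ⟨s, hs, t, ht, rfl⟩ := Submodule.mem_sup.mp hx
    have hs0 : s = 0 := p1 s hs (fun y hy => by
      have := h0 y (Submodule.mem_sup_right hy)
      have e := hab 0 S.zero_mem y hy
      simp only [zero_add] at e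
      simp only [LinearMap.sub_apply, LinearMap.flip_apply, LinearMap.compl₁₂_apply,
        hab s hs t ht, e] at this
      simpa using this)
    have ht0 : t = 0 := pair_flip p1 hd.ge t ht (fun y hy => by
      have := h0 y (Submodule.mem_sup_left hy)
      have e := hab y hy 0 T.zero_mem
      simp only [add_zero] at e
      simp only [LinearMap.sub_apply, LinearMap.flip_apply, LinearMap.compl₁₂_apply,
        hab s hs t ht, e] at this
      simpa using this)
    simp [hs0, ht0]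
  · intro x hx h0
    obtain ⟨s, hs, t, ht, rfl⟩ := Submodule.mem_sup.mp hx
    have ht0 : t = 0 := p2 t ht (fun y hy => by
      have := h0 y (Submodule.mem_sup_left hy)
      simpa [hS0 s hs y hy] using this)
    have hs0 : s = 0 := p1 s hs (fun y hy => by
      have := h0 y (Submodule.mem_sup_right hy)
      simpa [hT0 t ht y hy] using this)
    simp [hs0, ht0]

omit [FiniteDimensional F V] hB in
lemma not_pair_iff {X Y : Submodule F V} :
    ¬ (∃ x ∈ X, ∃ y ∈ Y, B x y ≠ 0) ↔ ∀ x ∈ X, ∀ y ∈ Y, B x y = 0 := by simp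

/-- An invariant subspace with nondegenerate restriction carries a piece. -/
lemma exists_piece [Finite G] (hcop : (Nat.card G : F) ≠ 0) {W : Submodule F V} (hW : Inv ρ W)
    (hWW : Pair B W W) (hW0 : W ≠ ⊥) :
    ∃ P, Inv ρ P ∧ P ≠ ⊥ ∧ P ≤ W ∧ Pair B P P ∧ Piece ρ P := by
  have single : ∀ P, Simp ρ P → P ≤ W → (∃ x ∈ P, ∃ y ∈ P, B x y ≠ 0) →
      ∃ P, Inv ρ P ∧ P ≠ ⊥ ∧ P ≤ W ∧ Pair B P P ∧ Piece ρ P :=
    fun P hP hle h => ⟨P, hP.1, hP.2.1, hle, pair_of_simp hB hP hP.1 h,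
      piece_simp hB hP (pair_of_simp hB hP hP.1 h)⟩
  have double : ∀ S T, Simp ρ S → Simp ρ T → S ≤ W → T ≤ W → (∀ x ∈ S, ∀ y ∈ S, B x y = 0) →
      (∀ x ∈ T, ∀ y ∈ T, B x y = 0) → (∃ x ∈ S, ∃ y ∈ T, B x y ≠ 0) →
      (∃ x ∈ T, ∃ y ∈ S, B x y ≠ 0) →
      ∃ P, Inv ρ P ∧ P ≠ ⊥ ∧ P ≤ W ∧ Pair B P P ∧ Piece ρ P := by
    intro S T hS hT hSW hTW h1 h2 h3 h4
    have h := piece_pair hB hS hT h1 h2 h3 h4
    refine ⟨S ⊔ T, fun g u hu => ?_, fun e => hS.2.1 (eq_bot_iff.mpr (e ▸ le_sup_left)),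
      sup_le hSW hTW, h.2, h.1⟩
    obtain ⟨s, hs, t, ht, rfl⟩ := Submodule.mem_sup.mp hu
    rw [map_add]
    exact Submodule.add_mem_sup (hS.1 g s hs) (hT.1 g t ht)
  obtain ⟨S, hS, hSW, -⟩ := exists_simp_not_le ρ hcop ⊥ _ W rfl hW (fun h => hW0 (le_bot_iff.mp h))
  by_cases hSS : ∃ x ∈ S, ∃ y ∈ S, B x y ≠ 0
  · exact single S hS hSW hSS
  have hSS0 := not_pair_iff.mp hSS
  -- `T` pairing nontrivially with `S` on the right
  have hnT : ¬ W ≤ perp B.flip S := by
    intro h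
    apply hS.2.1
    rw [eq_bot_iff]
    intro s hs
    exact (Submodule.mem_bot F).mpr (hWW s (hSW hs) (fun y hy => h hy s hs))
  obtain ⟨T, hT, hTW, hTn⟩ := exists_simp_not_le ρ hcop _ _ W rfl hW hnT
  have hST : ∃ x ∈ S, ∃ y ∈ T, B x y ≠ 0 := by
    by_contra h
    exact hTn (fun t ht s hs => not_pair_iff.mp h s hs t ht)
  by_cases hTT : ∃ x ∈ T, ∃ y ∈ T, B x y ≠ 0
  · exact single T hT hTW hTT
  have hTT0 := not_pair_iff.mp hTT
  by_cases hTS : ∃ x ∈ T, ∃ y ∈ S, B x y ≠ 0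
  · exact double S T hS hT hSW hTW hSS0 hTT0 hST hTS
  have hTS0 := not_pair_iff.mp hTS
  -- `R` pairing nontrivially with `S` on the left
  have hnR : ¬ W ≤ perp B S := by
    intro h
    apply hS.2.1
    rw [eq_bot_iff]
    intro s hs
    exact (Submodule.mem_bot F).mpr
      (pair_flip hWW le_rfl s (hSW hs) (fun x hx => h hx s hs))
  obtain ⟨R, hR, hRW, hRn⟩ := exists_simp_not_le ρ hcop _ _ W rfl hW hnR
  have hRS : ∃ x ∈ R, ∃ y ∈ S, B x y ≠ 0 := by
    by_contra h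
    exact hRn (fun r hr s hs => not_pair_iff.mp h r hr s hs)
  by_cases hRR : ∃ x ∈ R, ∃ y ∈ R, B x y ≠ 0
  · exact single R hR hRW hRR
  have hRR0 := not_pair_iff.mp hRR
  by_cases hSR : ∃ x ∈ S, ∃ y ∈ R, B x y ≠ 0
  · exact double S R hS hR hSW hRW hSS0 hRR0 hSR hRS
  have hSR0 := not_pair_iff.mp hSR
  -- the diagonal of `T ≅ R`
  have pR : Pair B R S := pair_of_simp hB hR hS.1 hRS
  have hdR : Module.finrank F S ≤ Module.finrank F R := (finrank_eq_of_simp hB hR hS hRS).ge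
  obtain ⟨c, c1, c2, -⟩ := exists_rep (B := B) pR hdR
  -- `φ y` is the element of `R` inducing `x ↦ B x y` on `S`
  let f : R →ₗ[F] Module.Dual F S := B.compl₁₂ R.subtype S.subtype
  have hf : Function.Injective f := by
    rw [injective_iff_map_eq_zero]
    intro x hx
    apply Subtype.ext
    refine pR x x.2 (fun y hy => ?_)
    exact LinearMap.congr_fun hx ⟨y, hy⟩
  have hd' : Module.finrank F R = Module.finrank F (Module.Dual F S) := by
    rw [Subspace.dual_finrank_eq]; exact finrank_eq_of_simp hB hR hS hRS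
  let e := f.linearEquivOfInjective hf hd'
  let r : V →ₗ[F] Module.Dual F S := B.flip.compl₁₂ LinearMap.id S.subtype
  let φ : V →ₗ[F] V := R.subtype ∘ₗ e.symm.toLinearMap ∘ₗ r
  have φ1 : ∀ y, φ y ∈ R := fun y => (e.symm (r y)).2
  have φ2 : ∀ y, ∀ x ∈ S, B (φ y) x = B x y := by
    intro y x hx
    have : f (e.symm (r y)) = r y := by
      rw [← LinearMap.linearEquivOfInjective_apply (hf := hf) (hdim := hd') (e.symm (r y))]
      exact e.apply_symm_apply _
    exact LinearMap.congr_fun this ⟨x, hx⟩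
  have φe : ∀ g y, φ (ρ g y) = ρ g (φ y) := by
    intro g y
    rw [← sub_eq_zero]
    refine pR _ (R.sub_mem (φ1 _) (hR.1 g _ (φ1 _))) (fun x hx => ?_)
    have hx' : ρ g⁻¹ x ∈ S := hS.1 _ _ hx
    have e' : ρ g (ρ g⁻¹ x) = x := ρ.self_inv_apply g x
    have e1 : ∀ w, B (ρ g w) x = B w (ρ g⁻¹ x) := fun w => by
      conv_lhs => rw [← e']
      rw [hB]
    have e2 : B x (ρ g y) = B (ρ g⁻¹ x) y := by
      conv_lhs => rw [← e']
      rw [hB]
    simp only [map_sub, LinearMap.sub_apply, φ2 _ x hx, e1, φ2 _ _ hx', e2, sub_self]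
  let ψ : V →ₗ[F] V := LinearMap.id + φ
  have hψ : ∀ y ∈ T, ψ y = 0 → y = 0 := by
    intro y hy h0
    have hyR : φ y = -y := eq_neg_of_add_eq_zero_right h0
    refine pair_flip (pair_of_simp hB hS hT.1 hST) (finrank_eq_of_simp hB hS hT hST).ge y hy
      (fun x hx => ?_)
    rw [← φ2 y x hx, hyR, map_neg, LinearMap.neg_apply, hTS0 y hy x hx, neg_zero]
  let R' := T.map ψ
  have hψe : ∀ g y, ψ (ρ g y) = ρ g (ψ y) := fun g y => by simp [ψ, φe]
  have hR'i : Inv ρ R' := by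
    rintro g u ⟨y, hy, rfl⟩
    exact ⟨ρ g y, hT.1 g y hy, hψe g y⟩
  have hR' : Simp ρ R' := by
    refine ⟨hR'i, fun h => hT.2.1 ?_, fun U hU hle => ?_⟩
    · rw [eq_bot_iff]
      intro y hy
      refine (Submodule.mem_bot F).mpr (hψ y hy ?_)
      have : ψ y ∈ R' := ⟨y, hy, rfl⟩
      rw [h] at this
      simpa using this
    · rcases hT.2.2 (T ⊓ U.comap ψ) (fun g y hy => ⟨hT.1 g y hy.1, by
        change ψ (ρ g y) ∈ U
        rw [hψe]; exact hU g _ hy.2⟩) inf_le_left with h | h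
      · left
        rw [eq_bot_iff]
        intro u hu
        obtain ⟨y, hy, rfl⟩ := hle hu
        have : y ∈ T ⊓ U.comap ψ := ⟨hy, hu⟩
        rw [h] at this
        simp [(Submodule.mem_bot F).mp this]
      · right
        refine le_antisymm hle ?_
        rintro u ⟨y, hy, rfl⟩
        rw [← h] at hy
        exact hy.2
  have hR'W : R' ≤ W := by
    rintro u ⟨y, hy, rfl⟩
    exact W.add_mem (hTW hy) (hRW (φ1 y))
  obtain ⟨x, hx, y, hy, hxy⟩ := hST
  have hSR' : ∃ x ∈ S, ∃ z ∈ R', B x z ≠ 0 :=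
    ⟨x, hx, ψ y, ⟨y, hy, rfl⟩, by simpa [ψ, hSR0 x hx _ (φ1 y)] using hxy⟩
  have hR'S : ∃ z ∈ R', ∃ x ∈ S, B z x ≠ 0 :=
    ⟨ψ y, ⟨y, hy, rfl⟩, x, hx, by simpa [ψ, hTS0 y hy x hx, φ2 y x hx] using hxy⟩
  by_cases hR'R' : ∃ x ∈ R', ∃ y ∈ R', B x y ≠ 0
  · exact single R' hR' hR'W hR'R'
  exact double S R' hS hR' hSW hR'W hSS0 (not_pair_iff.mp hR'R') hSR' hR'S

/-- Splitting of an invariant subspace with nondegenerate restriction of `B`. -/
theorem exists_split [Finite G] (hcop : (Nat.card G : F) ≠ 0) :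
    ∀ n : ℕ, ∀ W : Submodule F V, Module.finrank F W = n → Inv ρ W → Pair B W W →
    ∃ U U' : Submodule F V, U ⊓ U' = ⊥ ∧ U ⊔ U' = W ∧ Inv ρ U ∧ Inv ρ U' ∧
      (∃ A : LinearMap.BilinForm F V, (∀ x, A x x = 0) ∧
        (∀ g, ∀ x ∈ U, ∀ y ∈ U, A (ρ g x) (ρ g y) = A x y) ∧ Pair A U U) ∧
      (∃ S : LinearMap.BilinForm F V, (∀ x y, S x y = S y x) ∧
        (∀ g, ∀ x ∈ U', ∀ y ∈ U', S (ρ g x) (ρ g y) = S x y) ∧ Pair S U' U') ∧
      ((2 : F) = 0 → ∀ g, ∀ x ∈ U', ρ g x = x) := by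
  intro n
  induction n using Nat.strong_induction_on with
  | _ n ih =>
  intro W hn hW hWW
  by_cases hW0 : W = ⊥
  · refine ⟨⊥, ⊥, by simp, by simp [hW0], ?_, ?_, ⟨0, by simp, by simp, ?_⟩,
      ⟨0, by simp, by simp, ?_⟩, ?_⟩
    · intro g u hu; simp [(Submodule.mem_bot F).mp hu]
    · intro g u hu; simp [(Submodule.mem_bot F).mp hu]
    · intro x hx _; exact (Submodule.mem_bot F).mp hx
    · intro x hx _; exact (Submodule.mem_bot F).mp hx
    · intro _ g x hx; simp [(Submodule.mem_bot F).mp hx]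
  obtain ⟨P, hP, hP0, hPW, hPP, hpiece⟩ := exists_piece hB hcop hW hWW hW0
  obtain ⟨π, π1, π2, π3⟩ := exists_rep hPP le_rfl
  have πe := rep_equivariant hB hP hP hPP π1 π2
  let Q := W ⊓ perp B P
  have hQ : Inv ρ Q := fun g u hu => ⟨hW g u hu.1, inv_perp hB hP g u hu.2⟩
  have hπQ : ∀ x ∈ Q, π x = 0 := fun x hx =>
    hPP _ (π1 x) (fun z hz => by rw [π2 x z hz]; exact hx.2 z hz)
  have hsubQ : ∀ x ∈ W, x - π x ∈ Q := fun x hx =>
    ⟨W.sub_mem hx (hPW (π1 x)), fun z hz => by simp [π2 x z hz]⟩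
  have hQQ : Pair B Q Q := by
    intro x hx h0
    refine hWW x hx.1 (fun y hy => ?_)
    have : y = (y - π y) + π y := by simp
    rw [this, map_add, h0 _ (hsubQ y hy), hx.2 _ (π1 y), add_zero]
  have hlt : Q < W := by
    refine lt_of_le_of_ne inf_le_left (fun h => hP0 ?_)
    rw [eq_bot_iff]
    intro x hx
    have hxQ : x ∈ Q := by rw [h]; exact hPW hx
    exact (Submodule.mem_bot F).mpr ((π3 x hx).symm.trans (hπQ x hxQ))
  obtain ⟨U, U', hdisj, hsup, hU, hU', ⟨A, A1, A2, A3⟩, ⟨S, S1, S2, S3⟩, htriv⟩ :=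
    ih _ (hn ▸ Submodule.finrank_lt_finrank_of_lt hlt) Q rfl hQ hQQ
  have hUQ : U ≤ Q := hsup ▸ le_sup_left
  have hU'Q : U' ≤ Q := hsup ▸ le_sup_right
  let κ : V →ₗ[F] V := LinearMap.id - π
  have hdec : ∀ X : Submodule F V, X ≤ Q → ∀ x ∈ X, ∀ y ∈ P,
      π (x + y) = y ∧ κ (x + y) = x := by
    intro X hX x hx y hy
    simp [κ, hπQ x (hX hx), π3 y hy]
  have hsupinv : ∀ X : Submodule F V, Inv ρ X → Inv ρ (X ⊔ P) := by
    intro X hX g u hu
    obtain ⟨a, ha, b, hb, rfl⟩ := Submodule.mem_sup.mp hu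
    rw [map_add]
    exact Submodule.add_mem_sup (hX g a ha) (hP g b hb)
  -- extending a form on a subspace of `Q` by a form on `P`
  have hext : ∀ (X : Submodule F V) (C D : LinearMap.BilinForm F V), X ≤ Q → Inv ρ X →
      (∀ g, ∀ x ∈ X, ∀ y ∈ X, C (ρ g x) (ρ g y) = C x y) → Pair C X X →
      (∀ g, ∀ x ∈ P, ∀ y ∈ P, D (ρ g x) (ρ g y) = D x y) → Pair D P P →
      (∀ g, ∀ x ∈ X ⊔ P, ∀ y ∈ X ⊔ P,
        (C.compl₁₂ κ κ + D.compl₁₂ π π) (ρ g x) (ρ g y) = (C.compl₁₂ κ κ + D.compl₁₂ π π) x y) ∧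
      Pair (C.compl₁₂ κ κ + D.compl₁₂ π π) (X ⊔ P) (X ⊔ P) := by
    intro X C D hX hXi hCi hC hDi hD
    refine ⟨fun g x hx y hy => ?_, fun x hx h0 => ?_⟩
    · obtain ⟨a, ha, b, hb, rfl⟩ := Submodule.mem_sup.mp hx
      obtain ⟨a', ha', b', hb', rfl⟩ := Submodule.mem_sup.mp hy
      simp only [LinearMap.add_apply, LinearMap.compl₁₂_apply]
      rw [map_add (ρ g) a b, map_add (ρ g) a' b']
      rw [(hdec X hX _ (hXi g a ha) _ (hP g b hb)).1, (hdec X hX _ (hXi g a ha) _ (hP g b hb)).2,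
        (hdec X hX _ (hXi g a' ha') _ (hP g b' hb')).1, (hdec X hX _ (hXi g a' ha') _ (hP g b' hb')).2,
        (hdec X hX a ha b hb).1, (hdec X hX a ha b hb).2,
        (hdec X hX a' ha' b' hb').1, (hdec X hX a' ha' b' hb').2, hCi g a ha a' ha', hDi g b hb b' hb']
    · obtain ⟨a, ha, b, hb, rfl⟩ := Submodule.mem_sup.mp hx
      have ha0 : a = 0 := hC a ha (fun y hy => by
        have := h0 y (Submodule.mem_sup_left hy)
        have e := hdec X hX y hy 0 P.zero_mem
        simp only [add_zero] at e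
        simp only [LinearMap.add_apply, LinearMap.compl₁₂_apply,
          (hdec X hX a ha b hb).1, (hdec X hX a ha b hb).2, e.1, e.2] at this
        simpa using this)
      have hb0 : b = 0 := hD b hb (fun y hy => by
        have := h0 y (Submodule.mem_sup_right hy)
        have e := hdec X hX 0 X.zero_mem y hy
        simp only [zero_add] at e
        simp only [LinearMap.add_apply, LinearMap.compl₁₂_apply,
          (hdec X hX a ha b hb).1, (hdec X hX a ha b hb).2, e.1, e.2] at this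
        simpa using this)
      simp [ha0, hb0]
  have hmem : ∀ x, x ∈ U ⊓ U' → x = 0 := fun x hx => by
    rw [hdisj] at hx; simpa using hx
  have hWsup : Q ⊔ P = W := by
    refine le_antisymm (sup_le inf_le_left hPW) (fun x hx => ?_)
    exact Submodule.mem_sup.mpr ⟨_, hsubQ x hx, _, π1 x, by simp⟩
  rcases hpiece with ⟨D, D1, D2, D3⟩ | ⟨⟨D, D1, D2, D3⟩, Dtriv⟩
  · obtain ⟨e1, e2⟩ := hext U A D hUQ hU A2 A3 D2 D3
    refine ⟨U ⊔ P, U', ?_, ?_, hsupinv U hU, hU', ⟨_, fun x => by simp [A1, D1], e1, e2⟩,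
      ⟨S, S1, S2, S3⟩, htriv⟩
    · rw [eq_bot_iff]
      rintro x ⟨hx, hx'⟩
      obtain ⟨a, ha, b, hb, rfl⟩ := Submodule.mem_sup.mp hx
      have h1 := (hdec U hUQ a ha b hb).1
      rw [hπQ _ (hU'Q hx')] at h1
      subst h1
      simp [hmem a ⟨ha, by simpa using hx'⟩]
    · rw [sup_assoc, sup_comm P U', ← sup_assoc, hsup, hWsup]
  · obtain ⟨e1, e2⟩ := hext U' S D hU'Q hU' S2 S3 D2 D3
    refine ⟨U, U' ⊔ P, ?_, ?_, hU, hsupinv U' hU', ⟨A, A1, A2, A3⟩,
      ⟨_, fun x y => by simp [S1 (κ x), D1 (π x)], e1, e2⟩, fun h g x hx => ?_⟩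
    · rw [eq_bot_iff]
      rintro x ⟨hx', hx⟩
      obtain ⟨a, ha, b, hb, rfl⟩ := Submodule.mem_sup.mp hx
      have h1 := (hdec U' hU'Q a ha b hb).1
      rw [hπQ _ (hUQ hx')] at h1
      subst h1
      simp [hmem a ⟨by simpa using hx', ha⟩]
    · rw [← sup_assoc, hsup, hWsup]
    · obtain ⟨a, ha, b, hb, rfl⟩ := Submodule.mem_sup.mp hx
      rw [map_add, htriv h g a ha, Dtriv h g b hb]

end forms

end Cfsg.Agent.Lib.SelfDual
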