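import Mathlib

/-! Faithful irreducible representations of abelian groups over finite fields: the span of the
image is a field over which the space is one-dimensional. -/

set_option linter.unusedSectionVars false

namespace Cfsg.Agent.Lib.SelfDual

variable {F : Type*} [Field F] [Finite F] {H : Type*} [CommGroup H] {V : Type*} [AddCommGroup V]
  [Module F V] [FiniteDimensional F V]

/-- The algebra generated by the image of `H`. -/
def spanAlg (ρ : Representation F H V) : Subalgebra F (Module.End F V) :=
  Algebra.adjoin F (Set.range fun h => ρ h)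

variable {ρ : Representation F H V}

lemma map_mem_spanAlg (h : H) : ρ h ∈ spanAlg ρ := Algebra.subset_adjoin ⟨h, rfl⟩

lemma commute_map {k : Module.End F V} (hk : k ∈ spanAlg ρ) (h : H) : Commute (ρ h) k := by
  induction hk using Algebra.adjoin_induction with
  | mem x hx =>
    obtain ⟨a, rfl⟩ := hx
    change ρ h * ρ a = ρ a * ρ h
    rw [← map_mul, mul_comm, map_mul]
  | algebraMap r => exact (Algebra.commutes r _).symm
  | add x y _ _ hx hy => exact hx.add_right hy
  | mul x y _ _ hx hy => exact hx.mul_right hy

lemma commute_spanAlg {j k : Module.End F V} (hj : j ∈ spanAlg ρ) (hk : k ∈ spanAlg ρ) :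
    Commute j k := by
  induction hj using Algebra.adjoin_induction with
  | mem x hx => obtain ⟨a, rfl⟩ := hx; exact commute_map hk a
  | algebraMap r => exact Algebra.commutes r k
  | add x y _ _ hx hy => exact hx.add_left hy
  | mul x y _ _ hx hy => exact hx.mul_left hy

variable (hirr : ∀ U : Submodule F V, (∀ h : H, ∀ u ∈ U, ρ h u ∈ U) → U = ⊥ ∨ U = ⊤)

include hirr

lemma eq_zero_of_apply_eq_zero {k : Module.End F V} (hk : k ∈ spanAlg ρ) {v : V} (hv : v ≠ 0)
    (h0 : k v = 0) : k = 0 := by
  rcases hirr (LinearMap.ker k) (fun h u hu => by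
    have hc := LinearMap.congr_fun (commute_map hk h).eq u
    change k (ρ h u) = 0
    change ρ h (k u) = k (ρ h u) at hc
    rw [← hc, show k u = 0 from hu, map_zero]) with h | h
  · exact absurd ((Submodule.eq_bot_iff _).mp h v h0) hv
  · exact LinearMap.ker_eq_top.mp h

lemma isField_spanAlg [Nontrivial V] : IsField (spanAlg ρ) := by
  have hnzd : NoZeroDivisors (spanAlg ρ) := ⟨fun {a b} hab => by
    by_contra! hne
    obtain ⟨ha, hb⟩ := hne
    obtain ⟨v, hv⟩ : ∃ v, (b : Module.End F V) v ≠ 0 := by
      by_contra! hall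
      exact hb (Subtype.ext (LinearMap.ext hall))
    refine ha (Subtype.ext (eq_zero_of_apply_eq_zero hirr a.2 hv ?_))
    exact LinearMap.congr_fun (congrArg Subtype.val hab) v⟩
  have : Nontrivial (spanAlg ρ) := ⟨0, 1, fun h => zero_ne_one (congrArg Subtype.val h)⟩
  have : IsDomain (spanAlg ρ) := NoZeroDivisors.to_isDomain _
  have : Finite (Module.End F V) := Module.finite_of_finite F
  exact Finite.isDomain_to_isField _

lemma bijective_eval {v : V} (hv : v ≠ 0) :
    Function.Bijective fun k : spanAlg ρ => (k : Module.End F V) v := by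
  refine ⟨fun a b hab => ?_, ?_⟩
  · refine Subtype.ext (sub_eq_zero.mp
      (eq_zero_of_apply_eq_zero hirr ((spanAlg ρ).sub_mem a.2 b.2) hv ?_))
    change (a : Module.End F V) v - (b : Module.End F V) v = 0
    exact sub_eq_zero.mpr hab
  · let U : Submodule F V := (spanAlg ρ).toSubmodule.map (LinearMap.applyₗ v)
    have hU : U = ⊤ := by
      refine (hirr U ?_).resolve_left ?_
      · rintro h u ⟨k, hk, rfl⟩
        exact ⟨ρ h * k, (spanAlg ρ).mul_mem (map_mem_spanAlg h) hk, rfl⟩
      · intro hb
        have : v ∈ U := ⟨1, (spanAlg ρ).one_mem, rfl⟩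
        rw [hb] at this
        exact hv (by simpa using this)
    intro w
    have : w ∈ U := hU ▸ Submodule.mem_top
    obtain ⟨k, hk, rfl⟩ := this
    exact ⟨⟨k, hk⟩, rfl⟩

/-- `V` is the regular module of the field `spanAlg ρ`. -/
noncomputable def evalEquiv {v : V} (hv : v ≠ 0) : spanAlg ρ ≃ₗ[F] V :=
  LinearEquiv.ofBijective
    ((LinearMap.applyₗ v) ∘ₗ (spanAlg ρ).toSubmodule.subtype) (bijective_eval hirr hv)

lemma evalEquiv_apply {v : V} (hv : v ≠ 0) (k : spanAlg ρ) :
    evalEquiv hirr hv k = (k : Module.End F V) v := rfl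

/-- A faithful irreducible representation of an abelian group: a field `spanAlg ρ`, cyclic `H`. -/
lemma isCyclic_of_faithful [Finite H] [Nontrivial V] (hf : Function.Injective ρ) : IsCyclic H := by
  letI : Field (spanAlg ρ) := (isField_spanAlg hirr).toField
  let i : H →* spanAlg ρ :=
    { toFun := fun h => ⟨ρ h, map_mem_spanAlg h⟩
      map_one' := Subtype.ext (map_one ρ)
      map_mul' := fun a b => Subtype.ext (map_mul ρ a b) }
  exact isCyclic_of_subgroup_isDomain i (fun a b h => hf (congrArg Subtype.val h))

end Cfsg.Agent.Lib.SelfDual
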